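import Groth.Agent.EtZarFlasque.Basic
import Groth.Agent.EtSection.Split
import Groth.Agent.EtSection.NormalSH
import Groth.Agent.EtaleSite.ConstSections
import Groth.Agent.WEtale.Local

/-!
# Constant sheaves on normal schemes with separably closed function field are flasque
-/

set_option autoImplicit false

universe u

open CategoryTheory CategoryTheory.Limits AlgebraicGeometry Opposite TopologicalSpace

noncomputable section

namespace Groth.Agent.EtZarFlasque

open Groth.Agent.EtaleSite Groth.Agent.EtaleSite.ConstSections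

variable {X : Scheme.{u}} [IsIntegral X]

theorem forall_isSH (hN : ∀ x : X, IsIntegrallyClosed (X.presheaf.stalk x))
    [IsSepClosed X.functionField] (x : X) :
    EtCoh.IsStrictlyHenselianLocalRing (X.presheaf.stalk x) := by
  have := hN x
  exact Groth.Agent.EtSection.isStrictlyHenselian_of_normal X.functionField

variable (hX : ∀ x : X, EtCoh.IsStrictlyHenselianLocalRing (X.presheaf.stalk x))

include hX in
theorem allSH : AllSH X := fun U u => by
  let f : U.left ⟶ X := U.hom
  haveI : Etale f := U.prop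
  have := Groth.Agent.EtSection.isIso_stalkMap f hX u
  exact Groth.Agent.WEtale.Local.strictlyHenselian_of_ringEquiv
    (asIso (f.stalkMap u)).commRingCatIsoToRingEquiv (hX _)

variable (M : AddCommGrpCat.{u + 1})

include hX in
/-- A section of a constant sheaf is constant near every point. -/
theorem exists_cst_nhd {U : X.Etale} (s : EtCoh.sect (cSheaf X M) U) (x : U.left) :
    ∃ (D : U.left.Opens) (c : M), x ∈ D ∧
      (cSheaf X M).obj.map (pieceHom U D).op s = cst (piece U D) c := by
  have := (etaConst_locallyBijective (X := X) M).2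
  obtain ⟨V, h, v, ⟨c, hc⟩, hv⟩ := exists_of_mem_topology
    (Presheaf.imageSieve_mem X.smallEtaleTopology (etaConst (X := X) M) s) x
  haveI : Etale U.hom := U.prop
  have : Etale (h.left ≫ U.hom) := by
    rw [MorphismProperty.Over.w h]; exact V.prop
  have : Etale h.left := Etale.of_comp h.left U.hom
  obtain ⟨D, σ, hxD, hσ, -⟩ :=
    Groth.Agent.EtSection.exists_section_of_sh h.left v (allSH hX U _)
  let σ' : piece U D ⟶ V := MorphismProperty.Over.homMk σ
    (((congrArg (σ ≫ ·) (MorphismProperty.Over.w h).symm).trans (Category.assoc _ _ _).symm).trans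
      (congrArg (· ≫ U.hom) hσ))
  refine ⟨D, c, hv ▸ hxD, ?_⟩
  rw [← res_res (cSheaf X M) σ' h (c := pieceHom U D) (MorphismProperty.Over.Hom.ext hσ) s, ← hc]
  exact map_cst σ' c

omit [IsIntegral X] in
/-- Two constant descriptions of a section agree where both are defined. -/
theorem cst_unique {U : X.Etale} {s : EtCoh.sect (cSheaf X M) U} {D D' : U.left.Opens} {c c' : M}
    (hD : (cSheaf X M).obj.map (pieceHom U D).op s = cst (piece U D) c)
    (hD' : (cSheaf X M).obj.map (pieceHom U D').op s = cst (piece U D') c') {z : U.left} (hz : z ∈ D)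
    (hz' : z ∈ D') : c = c' := by
  refine cst_injective (X := X) (W := piece U (D ⊓ D')) ⟨z, hz, hz'⟩ ?_
  rw [← map_cst (pieceLE U (inf_le_left : D ⊓ D' ≤ D)), ← hD,
    ← map_cst (pieceLE U (inf_le_right : D ⊓ D' ≤ D')), ← hD',
    res_res _ _ _ (pieceLE_hom U _), res_res _ _ _ (pieceLE_hom U _)]

include hX in
/-- Constant sheaves have surjective restrictions. -/
theorem surj_const : Surj (cSheaf X M) := by
  intro U V g hg s
  let f : U.left ⟶ X := U.hom
  haveI : Etale f := U.prop
  choose D c hxD hDc using exists_cst_nhd hX M s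
  let r : _root_.ConnectedComponents U.left → U.left :=
    Function.surjInv ConnectedComponents.surjective_coe
  have hr : ∀ q, ConnectedComponents.mk (r q) = q := Function.surjInv_eq _
  let C : _root_.ConnectedComponents U.left → U.left.Opens := fun q =>
    EtSection.comp f hX (r q)
  have hC : ∀ x, x ∈ C (ConnectedComponents.mk x) := fun x =>
    ConnectedComponents.coe_eq_coe'.1 (hr _).symm
  have hCd : ∀ a b, a ≠ b → Disjoint (C a) (C b) := by
    intro a b hab
    rw [disjoint_iff, eq_bot_iff]
    rintro x ⟨ha, hb⟩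
    exact hab ((hr a).symm.trans ((ConnectedComponents.coe_eq_coe.2
      ((connectedComponent_eq ha).trans (connectedComponent_eq hb).symm)).trans (hr b)))
  have hconst : ∀ q v w, g.left v ∈ C q → g.left w ∈ C q → c v = c w := by
    intro q v w hv hw
    have hirr : IsIrreducible (g.left ⁻¹' (C q : Set U.left)) :=
      (EtSection.isIrreducible_connectedComponent f hX (r q)).preimage
        g.left.isOpenEmbedding ⟨g.left v, hv, v, rfl⟩
    obtain ⟨z, -, hzv, hzw⟩ := hirr.2 (D v : Set V.left) (D w : Set V.left) (D v).2 (D w).2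
      ⟨v, hv, hxD v⟩ ⟨w, hw, hxD w⟩
    exact cst_unique M (hDc v) (hDc w) hzv hzw
  classical
  let val : _root_.ConnectedComponents U.left → M := fun q =>
    if h : ∃ v, g.left v ∈ C q then c h.choose else 0
  have hval : ∀ v, val (ConnectedComponents.mk (g.left v)) = c v := fun v => by
    have h : ∃ w, g.left w ∈ C (ConnectedComponents.mk (g.left v)) := ⟨v, hC _⟩
    rw [show val _ = c h.choose from dif_pos h]
    exact hconst _ _ _ h.choose_spec (hC _)
  obtain ⟨t, ht⟩ := exists_glue_disjoint (cSheaf X M) C hCd (fun x => ⟨_, hC x⟩)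
    fun q => cst (piece U (C q)) (val q)
  refine ⟨t, eq_of_pieces (cSheaf X M) (U := V)
    (fun v => D v ⊓ g.left ⁻¹ᵁ C (ConnectedComponents.mk (g.left v)))
    (fun v => ⟨v, hxD v, hC _⟩) _ _ fun v => ?_⟩
  let E := D v ⊓ g.left ⁻¹ᵁ C (ConnectedComponents.mk (g.left v))
  let C₀ : U.left.Opens := C (ConnectedComponents.mk (g.left v))
  have hrange : Set.range (E.ι ≫ g.left) ⊆ Set.range (Scheme.Opens.ι C₀) := by
    rintro _ ⟨z, rfl⟩
    exact ⟨⟨g.left z.1, z.2.2⟩, rfl⟩
  let l₀ : (E : Scheme.{u}) ⟶ (C₀ : Scheme.{u}) := IsOpenImmersion.lift C₀.ι (E.ι ≫ g.left) hrange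
  have hl₀ : l₀ ≫ C₀.ι = E.ι ≫ g.left := IsOpenImmersion.lift_fac _ _ hrange
  let l : piece V E ⟶ piece U C₀ := MorphismProperty.Over.homMk l₀
    ((((Category.assoc _ _ _).symm.trans (congrArg (· ≫ U.hom) hl₀)).trans (Category.assoc _ _ _)).trans
      (congrArg (E.ι ≫ ·) (MorphismProperty.Over.w g)))
  have hl : l ≫ pieceHom U C₀ = pieceHom V E ≫ g := MorphismProperty.Over.Hom.ext hl₀
  calc (cSheaf X M).obj.map (pieceHom V E).op ((cSheaf X M).obj.map g.op t)
      = (cSheaf X M).obj.map (pieceHom V E ≫ g).op t := res_res _ _ _ rfl t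
    _ = (cSheaf X M).obj.map l.op ((cSheaf X M).obj.map (pieceHom U C₀).op t) :=
      (res_res _ _ _ hl t).symm
    _ = (cSheaf X M).obj.map l.op (cst (piece U C₀) (val _)) := congrArg _ (ht _)
    _ = cst (piece V E) (c v) := by rw [map_cst, hval]
    _ = (cSheaf X M).obj.map (pieceLE V (inf_le_left : E ≤ D v)).op
        ((cSheaf X M).obj.map (pieceHom V (D v)).op s) := by rw [hDc, map_cst]
    _ = (cSheaf X M).obj.map (pieceHom V E).op s := res_res _ _ _ (pieceLE_hom V _) s

end Groth.Agent.EtZarFlasque
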