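import Groth.Agent.EtSection.SH
import Groth.Agent.EtaleSite.Clopen
import Groth.Agent.EtaleSite.OpenRestrict

/-!
# Étale sheaves with surjective restrictions, strictly henselian local rings

If all étale schemes over `X` have strictly henselian local rings, an abelian étale sheaf with
surjective restrictions along open immersions is flasque.
-/

set_option autoImplicit false

universe u

open CategoryTheory CategoryTheory.Limits AlgebraicGeometry Opposite TopologicalSpace

noncomputable section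

namespace Groth.Agent.EtZarFlasque

open Groth.Agent.EtaleSite

variable {X : Scheme.{u}}

/-- All étale `X`-schemes have strictly henselian local rings. -/
def AllSH (X : Scheme.{u}) : Prop :=
  ∀ (U : X.Etale) (x : U.left), EtCoh.IsStrictlyHenselianLocalRing (U.left.presheaf.stalk x)

/-- Surjective restrictions along open immersions. -/
def Surj (F : EtCoh.Ab X) : Prop :=
  ∀ ⦃U V : X.Etale⦄ (g : V ⟶ U), IsOpenImmersion g.left → Function.Surjective (F.obj.map g.op)

/-- The map between two open pieces. -/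
def pieceLE (U : X.Etale) {A B : U.left.Opens} (h : A ≤ B) : piece U A ⟶ piece U B :=
  MorphismProperty.Over.homMk (U.left.homOfLE h)
    (show U.left.homOfLE h ≫ B.ι ≫ U.hom = A.ι ≫ U.hom by rw [Scheme.homOfLE_ι_assoc])

@[simp]
theorem pieceLE_left (U : X.Etale) {A B : U.left.Opens} (h : A ≤ B) :
    (pieceLE U h).left = U.left.homOfLE h := rfl

theorem pieceLE_hom (U : X.Etale) {A B : U.left.Opens} (h : A ≤ B) :
    pieceLE U h ≫ pieceHom U B = pieceHom U A :=
  MorphismProperty.Over.Hom.ext (U.left.homOfLE_ι h)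

theorem pieceLE_comp (U : X.Etale) {A B C : U.left.Opens} (h : A ≤ B) (h' : B ≤ C) :
    pieceLE U h ≫ pieceLE U h' = pieceLE U (h.trans h') :=
  MorphismProperty.Over.Hom.ext (U.left.homOfLE_homOfLE h h')

theorem res_res (F : EtCoh.Ab X) {T U V : X.Etale} (a : T ⟶ U) (b : U ⟶ V) {c : T ⟶ V}
    (h : a ≫ b = c) (s : F.obj.obj (op V)) :
    F.obj.map a.op (F.obj.map b.op s) = F.obj.map c.op s := by
  rw [← ConcreteCategory.comp_apply, ← Functor.map_comp, ← op_comp, h]

/-- Sections glue along an open covering of an open piece. -/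
theorem exists_glue (F : EtCoh.Ab X) {U : X.Etale} {μ : Type*} (W : μ → U.left.Opens)
    (A : U.left.Opens) (hW : ∀ a, W a ≤ A) (hc : ∀ x ∈ A, ∃ a, x ∈ W a)
    (s : ∀ a, F.obj.obj (op (piece U (W a))))
    (hs : ∀ a b, F.obj.map (pieceLE U (inf_le_left : W a ⊓ W b ≤ W a)).op (s a) =
      F.obj.map (pieceLE U (inf_le_right : W a ⊓ W b ≤ W b)).op (s b)) :
    ∃ t : F.obj.obj (op (piece U A)), ∀ a, F.obj.map (pieceLE U (hW a)).op t = s a := by
  let P := F.obj ⋙ forget AddCommGrpCat.{u + 1}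
  have hP : (Presieve.ofArrows (fun a => piece U (W a)) fun a => pieceLE U (hW a)).IsSheafFor P := by
    rw [Presieve.isSheafFor_iff_generate]
    refine isSheaf_forget F _ (mem_topology_of_forall_exists _ fun u => ?_)
    obtain ⟨a, ha⟩ := hc u.1 u.2
    exact ⟨piece U (W a), pieceLE U (hW a), ⟨u.1, ha⟩, Sieve.le_generate _ _ _ (Presieve.ofArrows.mk a),
      Subtype.ext (Scheme.homOfLE_apply (hW a) _)⟩
  rw [Presieve.isSheafFor_arrows_iff] at hP
  obtain ⟨t, ht, -⟩ := hP s fun a b Z ga gb h => by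
    change F.obj.map ga.op (s a) = F.obj.map gb.op (s b)
    have e : ga.left ≫ (W a).ι = gb.left ≫ (W b).ι := by
      refine (congrArg (ga.left ≫ ·) (U.left.homOfLE_ι (hW a)).symm).trans ((Category.assoc _ _ _).symm.trans
        ((congrArg (fun k : Z ⟶ piece U A => k.left ≫ A.ι) h).trans ((Category.assoc _ _ _).trans
          (congrArg (gb.left ≫ ·) (U.left.homOfLE_ι (hW b))))))
    have hr : Set.range (ga.left ≫ (W a).ι) ⊆ Set.range (W a ⊓ W b).ι := by
      rw [Scheme.Opens.range_ι]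
      rintro _ ⟨z, rfl⟩
      refine ⟨(ga.left z).2, ?_⟩
      rw [e]
      exact (gb.left z).2
    let l₀ := IsOpenImmersion.lift (W a ⊓ W b).ι (ga.left ≫ (W a).ι) hr
    have hl₀ : l₀ ≫ (W a ⊓ W b).ι = ga.left ≫ (W a).ι := IsOpenImmersion.lift_fac _ _ hr
    let l : Z ⟶ piece U (W a ⊓ W b) := MorphismProperty.Over.homMk l₀
      (((reassoc_of% hl₀) U.hom).trans (MorphismProperty.Over.w ga))
    have ea : l ≫ pieceLE U inf_le_left = ga := MorphismProperty.Over.Hom.ext
      ((cancel_mono (W a).ι).1 ((Category.assoc _ _ _).trans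
        ((congrArg (l₀ ≫ ·) (U.left.homOfLE_ι (inf_le_left : W a ⊓ W b ≤ W a))).trans hl₀)))
    have eb : l ≫ pieceLE U inf_le_right = gb := MorphismProperty.Over.Hom.ext
      ((cancel_mono (W b).ι).1 ((Category.assoc _ _ _).trans
        ((congrArg (l₀ ≫ ·) (U.left.homOfLE_ι (inf_le_right : W a ⊓ W b ≤ W b))).trans (hl₀.trans e))))
    rw [← res_res F l _ ea, hs a b, res_res F l _ eb]
  exact ⟨t, ht⟩

/-- Partial preimages of a section. -/
structure Lift {G Q : EtCoh.Ab X} (g : G ⟶ Q) (U : X.Etale) (s : Q.obj.obj (op U)) where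
  /-- the domain -/
  dom : U.left.Opens
  /-- the section -/
  sec : G.obj.obj (op (piece U dom))
  map_sec : g.hom.app (op (piece U dom)) sec = Q.obj.map (pieceHom U dom).op s

/-- Epimorphisms with flasque-like kernel are surjective on sections. -/
theorem surjective_sections (hX : AllSH X) {S : ShortComplex (EtCoh.Ab X)} (hS : S.ShortExact)
    (h₁ : Surj S.X₁) (U : X.Etale) : Function.Surjective (S.g.hom.app (op U)) := by
  intro s
  have hex : ∀ (T : X.Etale) (y : S.X₂.obj.obj (op T)), S.g.hom.app (op T) y = 0 →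
      ∃ a, S.f.hom.app (op T) a = y := fun T y hy => by
    have h := (hS.exact.map_of_mono_of_preservesKernel
      (sheafToPresheaf X.smallEtaleTopology AddCommGrpCat.{u + 1} ⋙
        (evaluation _ AddCommGrpCat.{u + 1}).obj (op T)) hS.mono_f inferInstance)
    exact (ShortComplex.ab_exact_iff _).1 h y hy
  have hfg : ∀ (T : X.Etale) (a : S.X₁.obj.obj (op T)),
      S.g.hom.app (op T) (S.f.hom.app (op T) a) = 0 := fun T a =>
    ConcreteCategory.congr_hom (congrArg (fun (k : S.X₁ ⟶ S.X₃) => k.hom.app (op T)) S.zero) a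
  have hloc : ∀ x : U.left, ∃ p : Lift S.g U s, x ∈ p.dom := by
    intro x
    have := hS.epi_g
    have : Sheaf.IsLocallySurjective S.g := (Sheaf.isLocallySurjective_iff_epi' _ S.g).2 inferInstance
    obtain ⟨V, h, v, ⟨y, hy⟩, hv⟩ :=
      exists_of_mem_topology (Presheaf.imageSieve_mem X.smallEtaleTopology S.g.hom s) x
    have : Etale h.left := by
      have : Etale U.hom := U.prop
      have : Etale (h.left ≫ U.hom) := by
        rw [MorphismProperty.Over.w h]; exact V.prop
      exact Etale.of_comp h.left U.hom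
    obtain ⟨D, σ, hxD, hσ, -⟩ := Groth.Agent.EtSection.exists_section_of_sh h.left v (hX U _)
    let σ' : piece U D ⟶ V := MorphismProperty.Over.homMk σ
      (((congrArg (σ ≫ ·) (MorphismProperty.Over.w h).symm).trans (Category.assoc _ _ _).symm).trans (congrArg (· ≫ U.hom) hσ))
    refine ⟨⟨D, S.X₂.obj.map σ'.op y, ?_⟩, hv ▸ hxD⟩
    rw [NatTrans.naturality_apply, hy]
    exact res_res S.X₃ σ' h (c := pieceHom U D) (MorphismProperty.Over.Hom.ext hσ) s
  let r : Lift S.g U s → Lift S.g U s → Prop := fun p q =>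
    ∃ h : p.dom ≤ q.dom, S.X₂.obj.map (pieceLE U h).op q.sec = p.sec
  have hr : ∀ {a b c}, r a b → r b c → r a c := by
    rintro a b c ⟨h, e⟩ ⟨h', e'⟩
    exact ⟨h.trans h', by rw [← res_res S.X₂ _ _ (pieceLE_comp U h h'), e', e]⟩
  have hchain : ∀ c : Set (Lift S.g U s), IsChain r c → ∃ ub, ∀ a ∈ c, r a ub := by
    intro c hc
    let W : c → U.left.Opens := fun a => a.1.dom
    obtain ⟨t, ht⟩ := exists_glue S.X₂ W (iSup W) (le_iSup W)
      (fun x hx => Opens.mem_iSup.1 hx) (fun a => a.1.sec) fun a b => by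
        by_cases hab : a = b
        · subst hab; rfl
        rcases hc a.2 b.2 (fun e => hab (Subtype.ext e)) with ⟨h, e⟩ | ⟨h, e⟩
        · change _ = S.X₂.obj.map _ b.1.sec
          rw [← e]
          exact res_res S.X₂ _ _ (pieceLE_comp U _ _) _
        · change S.X₂.obj.map _ a.1.sec = _
          rw [← e]
          exact (res_res S.X₂ _ _ (pieceLE_comp U _ _) _).symm
    refine ⟨⟨iSup W, t, eq_of_pieces S.X₃ (U := piece U (iSup W))
      (fun a => (iSup W).ι ⁻¹ᵁ W a) (fun x => (Opens.mem_iSup.1 (x.2 : x.1 ∈ iSup W)).elim fun a ha => ⟨a, ha⟩) _ _ fun a => ?_⟩,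
      fun a ha => ⟨le_iSup W ⟨a, ha⟩, ht ⟨a, ha⟩⟩⟩
    let l : piece (piece U (iSup W)) ((iSup W).ι ⁻¹ᵁ W a) ⟶ piece U (W a) :=
      MorphismProperty.Over.homMk ((iSup W).ι ∣_ W a)
        (show ((iSup W).ι ∣_ W a) ≫ (W a).ι ≫ U.hom = _ from
          (morphismRestrict_ι_assoc (iSup W).ι (W a) U.hom))
    have hl : l ≫ pieceLE U (le_iSup W a) = pieceHom (piece U (iSup W)) ((iSup W).ι ⁻¹ᵁ W a) :=
      MorphismProperty.Over.Hom.ext ((cancel_mono (iSup W).ι).1 ((Category.assoc _ _ _).trans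
        ((congrArg (_ ≫ ·) (U.left.homOfLE_ι (le_iSup W a))).trans (morphismRestrict_ι _ _))))
    rw [← res_res S.X₃ l _ hl, ← res_res S.X₃ l _ hl, ← NatTrans.naturality_apply, ht a]
    refine congrArg (S.X₃.obj.map l.op) ?_
    rw [a.1.map_sec, res_res S.X₃ _ _ (pieceLE_hom U _)]
  obtain ⟨m, hm⟩ := exists_maximal_of_chains_bounded hchain hr
  have htop : ∀ x, x ∈ m.dom := by
    intro x
    obtain ⟨p, hxp⟩ := hloc x
    let O := m.dom ⊓ p.dom
    have h0 : S.g.hom.app (op (piece U O)) (S.X₂.obj.map (pieceLE U inf_le_left).op m.sec -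
        S.X₂.obj.map (pieceLE U inf_le_right).op p.sec) = 0 := by
      rw [map_sub, NatTrans.naturality_apply, NatTrans.naturality_apply, m.map_sec, p.map_sec,
        res_res S.X₃ _ _ (pieceLE_hom U _), res_res S.X₃ _ _ (pieceLE_hom U _), sub_self]
    obtain ⟨d, hd⟩ := hex _ _ h0
    obtain ⟨d', hd'⟩ := h₁ (pieceLE U (inf_le_right : O ≤ p.dom))
      (inferInstanceAs (IsOpenImmersion (U.left.homOfLE (inf_le_right : O ≤ p.dom)))) d
    let W : Bool → U.left.Opens := fun b => bif b then m.dom else p.dom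
    let sec : ∀ b, S.X₂.obj.obj (op (piece U (W b))) := fun
      | true => m.sec
      | false => p.sec + S.f.hom.app (op (piece U p.dom)) d'
    have hsec : ∀ b, S.g.hom.app (op (piece U (W b))) (sec b) =
        S.X₃.obj.map (pieceHom U (W b)).op s := by
      rintro (_ | _)
      · exact (map_add _ _ _).trans ((congrArg (_ + ·) (hfg _ _)).trans ((add_zero _).trans p.map_sec))
      · exact m.map_sec
    have h1 : S.X₂.obj.map (pieceLE U (inf_le_left : m.dom ⊓ p.dom ≤ m.dom)).op m.sec =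
        S.X₂.obj.map (pieceLE U (inf_le_right : m.dom ⊓ p.dom ≤ p.dom)).op
          (p.sec + S.f.hom.app (op (piece U p.dom)) d') := by
      rw [map_add, ← NatTrans.naturality_apply, hd', hd]
      abel
    obtain ⟨t, ht⟩ := exists_glue S.X₂ W (m.dom ⊔ p.dom)
      (fun b => by cases b; exacts [le_sup_right, le_sup_left])
      (fun y hy => hy.elim (fun h => ⟨true, h⟩) fun h => ⟨false, h⟩) sec (by
        rintro (_ | _) (_ | _)
        · rfl
        · change S.X₂.obj.map (pieceLE U (inf_le_left : p.dom ⊓ m.dom ≤ p.dom)).op _ =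
            S.X₂.obj.map (pieceLE U (inf_le_right : p.dom ⊓ m.dom ≤ m.dom)).op m.sec
          have := congrArg (S.X₂.obj.map (pieceLE U (le_inf inf_le_right inf_le_left :
            p.dom ⊓ m.dom ≤ m.dom ⊓ p.dom)).op) h1
          rw [res_res S.X₂ _ _ (pieceLE_comp U _ _), res_res S.X₂ _ _ (pieceLE_comp U _ _)] at this
          exact this.symm
        · exact h1
        · rfl)
    let q : Lift S.g U s := ⟨m.dom ⊔ p.dom, t, by
      refine eq_of_pieces S.X₃ (U := piece U (m.dom ⊔ p.dom))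
        (fun b => (m.dom ⊔ p.dom).ι ⁻¹ᵁ W b)
        (fun y => y.2.elim (fun h => ⟨true, h⟩) fun h => ⟨false, h⟩) _ _ fun b => ?_
      have hle : W b ≤ m.dom ⊔ p.dom := by cases b; exacts [le_sup_right, le_sup_left]
      let l : piece (piece U (m.dom ⊔ p.dom)) ((m.dom ⊔ p.dom).ι ⁻¹ᵁ W b) ⟶ piece U (W b) :=
        MorphismProperty.Over.homMk ((m.dom ⊔ p.dom).ι ∣_ W b)
          (morphismRestrict_ι_assoc (m.dom ⊔ p.dom).ι (W b) U.hom)
      have hl : l ≫ pieceLE U hle =
          pieceHom (piece U (m.dom ⊔ p.dom)) ((m.dom ⊔ p.dom).ι ⁻¹ᵁ W b) :=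
        MorphismProperty.Over.Hom.ext ((cancel_mono (m.dom ⊔ p.dom).ι).1 ((Category.assoc _ _ _).trans
          ((congrArg (_ ≫ ·) (U.left.homOfLE_ι hle)).trans (morphismRestrict_ι _ _))))
      rw [← res_res S.X₃ l _ hl, ← res_res S.X₃ l _ hl, ← NatTrans.naturality_apply, ht b]
      refine congrArg (S.X₃.obj.map l.op) ?_
      rw [hsec b, res_res S.X₃ _ _ (pieceLE_hom U _)]⟩
    obtain ⟨hle, -⟩ := hm q ⟨le_sup_left, ht true⟩
    exact hle (Or.inr hxp)
  let D : U.left.Opens := m.dom
  have hrange : Set.range (𝟙 U.left : U.left ⟶ U.left) ⊆ Set.range (Scheme.Opens.ι D) :=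
    fun y _ => ⟨⟨y, htop y⟩, rfl⟩
  let l₀ : U.left ⟶ (D : Scheme.{u}) := IsOpenImmersion.lift (Scheme.Opens.ι D) (𝟙 U.left) hrange
  have hl₀ : l₀ ≫ Scheme.Opens.ι D = 𝟙 U.left := IsOpenImmersion.lift_fac _ _ hrange
  let l : U ⟶ piece U D := MorphismProperty.Over.homMk l₀
    (((Category.assoc _ _ _).symm.trans (congrArg (· ≫ U.hom) hl₀)).trans (Category.id_comp _))
  have hl : l ≫ pieceHom U D = 𝟙 U := MorphismProperty.Over.Hom.ext hl₀
  refine ⟨S.X₂.obj.map l.op m.sec, ?_⟩
  refine (NatTrans.naturality_apply S.g.hom l.op m.sec).trans ((congrArg _ m.map_sec).trans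
    ((res_res S.X₃ l _ hl s).trans ?_))
  exact ConcreteCategory.congr_hom (S.X₃.obj.map_id (op U)) s

theorem Surj.quotient (hX : AllSH X) {S : ShortComplex (EtCoh.Ab X)} (hS : S.ShortExact)
    (h₁ : Surj S.X₁) (h₂ : Surj S.X₂) : Surj S.X₃ := fun U V g hg y => by
  obtain ⟨a, rfl⟩ := surjective_sections hX hS h₁ V y
  obtain ⟨b, rfl⟩ := h₂ g hg a
  exact ⟨S.g.hom.app (op U) b, (NatTrans.naturality_apply S.g.hom g.op b).symm⟩

theorem surj_of_injective (I : EtCoh.Ab X) [Injective I] : Surj I :=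
  fun _ _ g hg => haveI := hg; OpenRestrict.surjective_of_injective I g

/-- Surjective restrictions imply flasque. -/
theorem isFlasque_of_surj (hX : AllSH X) (F : EtCoh.Ab X) (hF : Surj F) : Flasque.IsFlasque F := by
  intro W q hq
  obtain ⟨k, rfl⟩ : ∃ k, q = k + 1 := ⟨q - 1, by omega⟩
  induction k generalizing F with
  | zero =>
    let S : ShortComplex (EtCoh.Ab X) :=
      ShortComplex.mk (Injective.ι F) (cokernel.π _) (cokernel.condition _)
    have : Epi S.g := coequalizer.π_epi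
    have hS : S.ShortExact := { exact := ShortComplex.exact_cokernel _ }
    have : Injective S.X₂ := inferInstanceAs (Injective (Injective.under F))
    refine subsingleton_of_forall_eq 0 fun x => ?_
    obtain ⟨y, rfl⟩ := Abelian.Ext.covariant_sequence_exact₁ (Flasque.freeOn W) hS x
      (Abelian.Ext.eq_zero_of_injective _) (rfl : 0 + 1 = 1)
    obtain ⟨φ, rfl⟩ := (Abelian.Ext.mk₀_bijective _ _).2 y
    obtain ⟨a, ha⟩ := surjective_sections hX hS hF W (Flasque.freeSec W S.X₃ φ)
    obtain ⟨ψ, rfl⟩ := (Flasque.freeSec_bijective W S.X₂).2 a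
    have : φ = ψ ≫ S.g := (Flasque.freeSec_bijective W S.X₃).1 (by rw [Flasque.freeSec_comp, ha])
    rw [this, ← Abelian.Ext.mk₀_comp_mk₀, Abelian.Ext.comp_assoc_of_second_deg_zero,
      hS.comp_extClass, Abelian.Ext.comp_zero]
  | succ n ih =>
    let S : ShortComplex (EtCoh.Ab X) :=
      ShortComplex.mk (Injective.ι F) (cokernel.π _) (cokernel.condition _)
    have : Epi S.g := coequalizer.π_epi
    have hS : S.ShortExact := { exact := ShortComplex.exact_cokernel _ }
    have : Injective S.X₂ := inferInstanceAs (Injective (Injective.under F))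
    refine subsingleton_of_forall_eq 0 fun x => ?_
    obtain ⟨y, rfl⟩ := Abelian.Ext.covariant_sequence_exact₁ (Flasque.freeOn W) hS x
      (Abelian.Ext.eq_zero_of_injective _) (rfl : n + 1 + 1 = n + 1 + 1)
    have := ih S.X₃ (hF.quotient hX hS (surj_of_injective _)) (by omega)
    rw [Subsingleton.elim y 0, Abelian.Ext.zero_comp]

end Groth.Agent.EtZarFlasque
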